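import Mathlib
import Cfsg.Agent.LieClassical.HermSiegel

/-!
# Two maximal totally isotropic subspaces of a Hermitian space are swapped by an element of `SU`

* `Mx U` : every isotropic vector orthogonal to `U` is in `U`;
* `exists_swap` : two totally isotropic subspaces `U, W` with `Mx` are swapped by an element of `SU_n(q)`.
-/

set_option autoImplicit false

namespace Cfsg.Agent.H855.RealB0

open Cfsg Cfsg.Agent.LieClassical.HermBasic Cfsg.Agent.LieClassical.HermSiegel Module

variable {F : Type*} [Field F] [Fintype F] {n q : ℕ}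

/-- totally isotropic -/
def TI (q : ℕ) (U : Submodule F (Fin n → F)) : Prop := ∀ u ∈ U, ∀ v ∈ U, hermForm n F q u v = 0

/-- every isotropic vector orthogonal to `U` is in `U` -/
def Mx (q : ℕ) (U : Submodule F (Fin n → F)) : Prop :=
  ∀ v, hermForm n F q v v = 0 → (∀ u ∈ U, hermForm n F q v u = 0) → v ∈ U

/-- A transvection. -/
theorem exists_transvection (hF : Fintype.card F = q ^ 2) {c : Fin n → F} {μ : F}
    (hc : hermForm n F q c c = 0) (hμ : μ + μ ^ q = 0) :
    ∃ g : SU n F q, ∀ v, act g v = v + (μ * hermForm n F q v c) • c := by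
  have h : IsSiegel q c 0 μ := ⟨hc, herm_zero_left c, by rw [herm_zero_left, add_zero]; exact hμ⟩
  refine ⟨siegel hF c 0 μ h, fun v => ?_⟩
  rw [act_siegel, smul_zero, add_zero, herm_zero_right hF, sub_zero]

/-- A hyperbolic plane is turned by an element of `SU` which is trivial on the orthogonal complement. -/
theorem exists_plane_swap (hF : Fintype.card F = q ^ 2) {a b : Fin n → F}
    (ha : hermForm n F q a a = 0) (hb : hermForm n F q b b = 0) (hab : hermForm n F q a b = 1) :
    ∃ (μ ν : F) (s : SU n F q), act s a = ν • b ∧ act s b = μ • a ∧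
      ∀ v, hermForm n F q v a = 0 → hermForm n F q v b = 0 → act s v = v := by
  have hba : hermForm n F q b a = 1 := by rw [herm_swap hF, hab, one_pow]
  obtain ⟨μ, hμ0, hμ⟩ := exists_trace_zero_ne hF
  have hμq : μ ^ q = -μ := by linear_combination hμ
  have hν : (-μ⁻¹) + (-μ⁻¹) ^ q = 0 := by
    rw [neg_pow_q hF, inv_pow, hμq, inv_neg]
    ring
  obtain ⟨g, hg⟩ := exists_transvection hF ha hμ
  obtain ⟨k, hk⟩ := exists_transvection hF hb hν
  have h1 : act g a = a := by rw [hg, ha, mul_zero, zero_smul, add_zero]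
  have h2 : act g b = b + μ • a := by rw [hg, hba, mul_one]
  have h3 : act k a = a + (-μ⁻¹) • b := by rw [hk, hab, mul_one]
  have h4 : act k b = b := by rw [hk, hb, mul_zero, zero_smul, add_zero]
  refine ⟨μ, -μ⁻¹, g * k * g, ?_, ?_, ?_⟩
  · rw [act_mul, act_mul, h1, h3, act_add, act_smul, h1, h2]
    have h5 : (-μ⁻¹) • (b + μ • a) = (-μ⁻¹) • b - a := by
      rw [smul_add, smul_smul, neg_mul, inv_mul_cancel₀ hμ0, neg_one_smul, sub_eq_add_neg]
    rw [h5]
    abel
  · rw [act_mul, act_mul, h2, act_add, act_smul, h4, h3]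
    have h5 : μ • (a + (-μ⁻¹) • b) = μ • a - b := by
      rw [smul_add, smul_smul, mul_neg, mul_inv_cancel₀ hμ0, neg_one_smul, sub_eq_add_neg]
    have h6 : b + (μ • a - b) = μ • a := by abel
    rw [h5, h6, act_smul, h1]
  · intro v h5 h6
    have h7 : act g v = v := by rw [hg, h5, mul_zero, zero_smul, add_zero]
    have h8 : act k v = v := by rw [hk, h6, mul_zero, zero_smul, add_zero]
    rw [act_mul, act_mul, h7, h8, h7]

/-- The swap of two paired totally isotropic subspaces. -/
theorem exists_swap_aux (hF : Fintype.card F = q ^ 2) : ∀ (m : ℕ) (U W : Submodule F (Fin n → F)),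
    finrank F U = m → TI q U → TI q W →
    (∀ u ∈ U, (∀ w ∈ W, hermForm n F q u w = 0) → u ∈ W) →
    (∀ w ∈ W, (∀ u ∈ U, hermForm n F q w u = 0) → w ∈ U) →
    ∃ g : SU n F q, (∀ u ∈ U, act g u ∈ W) ∧ (∀ w ∈ W, act g w ∈ U) ∧
      ∀ v, (∀ u ∈ U, hermForm n F q v u = 0) → (∀ w ∈ W, hermForm n F q v w = 0) → act g v = v := by
  intro m
  induction m using Nat.strong_induction_on with
  | _ m ih =>
  intro U W hm hU hW h1 h2
  by_cases hle : U ≤ W
  · have hge : W ≤ U := fun w hw => h2 w hw fun u hu => hW w hw u (hle hu)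
    exact ⟨1, fun u hu => by rw [act_one]; exact hle hu, fun w hw => by rw [act_one]; exact hge hw,
      fun v _ _ => act_one v⟩
  · obtain ⟨a, haU, haW⟩ := Set.not_subset.1 hle
    have hex : ∃ w ∈ W, hermForm n F q a w ≠ 0 := by
      by_contra hcon
      push Not at hcon
      exact haW (h1 a haU hcon)
    obtain ⟨b₀, hb₀, hab₀⟩ := hex
    obtain ⟨b, hbW, hab⟩ : ∃ b ∈ W, hermForm n F q a b = 1 :=
      ⟨((hermForm n F q a b₀)⁻¹ ^ q) • b₀, W.smul_mem _ hb₀, by
        rw [herm_smul_right, pow_q_pow_q hF, inv_mul_cancel₀ hab₀]⟩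
    have hba : hermForm n F q b a = 1 := by rw [herm_swap hF, hab, one_pow]
    have ha : hermForm n F q a a = 0 := hU a haU a haU
    have hb : hermForm n F q b b = 0 := hW b hbW b hbW
    let U₁ : Submodule F (Fin n → F) :=
      { carrier := {x | x ∈ U ∧ hermForm n F q x b = 0}
        zero_mem' := ⟨U.zero_mem, herm_zero_left b⟩
        add_mem' := fun {x y} hx hy => ⟨U.add_mem hx.1 hy.1, by rw [herm_add_left, hx.2, hy.2, add_zero]⟩
        smul_mem' := fun c x hx => ⟨U.smul_mem c hx.1, by rw [herm_smul_left, hx.2, mul_zero]⟩ }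
    let W₁ : Submodule F (Fin n → F) :=
      { carrier := {x | x ∈ W ∧ hermForm n F q x a = 0}
        zero_mem' := ⟨W.zero_mem, herm_zero_left a⟩
        add_mem' := fun {x y} hx hy => ⟨W.add_mem hx.1 hy.1, by rw [herm_add_left, hx.2, hy.2, add_zero]⟩
        smul_mem' := fun c x hx => ⟨W.smul_mem c hx.1, by rw [herm_smul_left, hx.2, mul_zero]⟩ }
    have hU₁ : ∀ x, x ∈ U₁ ↔ x ∈ U ∧ hermForm n F q x b = 0 := fun _ => Iff.rfl
    have hW₁ : ∀ x, x ∈ W₁ ↔ x ∈ W ∧ hermForm n F q x a = 0 := fun _ => Iff.rfl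
    have hUdec : ∀ u ∈ U, u - hermForm n F q u b • a ∈ U₁ := by
      intro u hu
      refine (hU₁ _).2 ⟨U.sub_mem hu (U.smul_mem _ haU), ?_⟩
      rw [herm_sub_left, herm_smul_left, hab, mul_one, sub_self]
    have hWdec : ∀ w ∈ W, w - hermForm n F q w a • b ∈ W₁ := by
      intro w hw
      refine (hW₁ _).2 ⟨W.sub_mem hw (W.smul_mem _ hbW), ?_⟩
      rw [herm_sub_left, herm_smul_left, hba, mul_one, sub_self]
    have hlt : finrank F U₁ < m := by
      rw [← hm]
      refine Submodule.finrank_lt_finrank_of_lt (lt_of_le_of_ne (fun x hx => hx.1) ?_)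
      intro he
      have h3 : a ∈ U₁ := by rw [he]; exact haU
      rw [hU₁, hab] at h3
      exact one_ne_zero h3.2
    obtain ⟨g, hg1, hg2, hg3⟩ := ih _ hlt U₁ W₁ rfl (fun u hu v hv => hU u hu.1 v hv.1)
      (fun u hu v hv => hW u hu.1 v hv.1) (by
        intro u hu h
        refine (hW₁ u).2 ⟨h1 u hu.1 fun w hw => ?_, hU u hu.1 a haU⟩
        have h3 := h _ (hWdec w hw)
        rw [herm_sub_right hF, herm_smul_right, hu.2, mul_zero, sub_zero] at h3
        exact h3) (by
        intro w hw h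
        refine (hU₁ w).2 ⟨h2 w hw.1 fun u hu => ?_, hW w hw.1 b hbW⟩
        have h3 := h _ (hUdec u hu)
        rw [herm_sub_right hF, herm_smul_right, hw.2, mul_zero, sub_zero] at h3
        exact h3)
    obtain ⟨μ, ν, s, hs1, hs2, hs3⟩ := exists_plane_swap hF ha hb hab
    have hga : act g a = a := hg3 a (fun u hu => hU a haU u hu.1)
      (fun w hw => herm_eq_zero_swap hF hw.2)
    have hgb : act g b = b := hg3 b (fun u hu => herm_eq_zero_swap hF hu.2)
      (fun w hw => hW b hbW w hw.1)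
    have hsU : ∀ x ∈ U₁, act s x = x := fun x hx => hs3 x (hU x hx.1 a haU) hx.2
    have hsW : ∀ x ∈ W₁, act s x = x := fun x hx => hs3 x hx.2 (hW x hx.1 b hbW)
    refine ⟨s * g, ?_, ?_, ?_⟩
    · intro u hu
      have h3 : u = hermForm n F q u b • a + (u - hermForm n F q u b • a) := by abel
      rw [act_mul, h3, act_add, act_smul, hga, act_add, act_smul, hs1, hsW _ (hg1 _ (hUdec u hu))]
      exact W.add_mem (W.smul_mem _ (W.smul_mem _ hbW)) (hg1 _ (hUdec u hu)).1
    · intro w hw
      have h3 : w = hermForm n F q w a • b + (w - hermForm n F q w a • b) := by abel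
      rw [act_mul, h3, act_add, act_smul, hgb, act_add, act_smul, hs2, hsU _ (hg2 _ (hWdec w hw))]
      exact U.add_mem (U.smul_mem _ (U.smul_mem _ haU)) (hg2 _ (hWdec w hw)).1
    · intro v hv1 hv2
      rw [act_mul, hg3 v (fun u hu => hv1 u hu.1) (fun w hw => hv2 w hw.1)]
      exact hs3 v (hv1 a haU) (hv2 b hbW)

theorem exists_swap (hF : Fintype.card F = q ^ 2) {U W : Submodule F (Fin n → F)}
    (hU : TI q U) (hW : TI q W) (hUm : Mx q U) (hWm : Mx q W) :
    ∃ g : SU n F q, (∀ u ∈ U, act g u ∈ W) ∧ ∀ w ∈ W, act g w ∈ U := by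
  obtain ⟨g, h1, h2, -⟩ := exists_swap_aux hF _ U W rfl hU hW (fun u hu h => hWm u (hU u hu u hu) h)
    (fun w hw h => hUm w (hW w hw w hw) h)
  exact ⟨g, h1, h2⟩

end Cfsg.Agent.H855.RealB0
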